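import Groth.Agent.EtAcycLib.Range

/-!
# Vanishing of higher direct images from surjectivity of pullback on cohomology
-/

set_option autoImplicit false
set_option linter.unusedSectionVars false
set_option linter.style.haveILetI false
set_option backward.isDefEq.respectTransparency false
set_option backward.isDefEq.respectTransparency.types false
set_option synthInstance.maxHeartbeats 400000
set_option maxHeartbeats 1000000

universe u

open CategoryTheory CategoryTheory.Limits CategoryTheory.Abelian AlgebraicGeometry Opposite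
open Groth.Agent Groth.Agent.EtShLib EtSliceLib DescSecLib

namespace EtAcycLib

noncomputable section

variable {X Y : Scheme.{u}} (g : X ⟶ Y)

theorem theta_eq (F : EtCoh.Ab Y) {U V : Over Y} (φ : U ⟶ V) :
    etSys.θ F φ = (etSys.c φ.left V.hom U.hom (Over.w φ)).app F := by
  simp only [DescSecLib.PullSys.θ, DescSecLib.PullSys.k, DescSecLib.PullSys.c, Adjunction.comp_homEquiv]
  rfl

theorem isIso_theta (F : EtCoh.Ab Y) {U V : Over Y} (φ : U ⟶ V) : IsIso (etSys.θ F φ) := by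
  rw [theta_eq, ← pullComp_inv_eq]
  infer_instance

/-- The object `X ⟶ Y`. -/
abbrev gOv : Over Y := Over.mk g

/-- An object over `X` seen over `Y`. -/
abbrev up (V : Over X) : Over Y := Over.mk (V.hom ≫ g)

/-- Its map to `X`. -/
abbrev upTo (V : Over X) : up g V ⟶ gOv g := Over.homMk V.hom

/-- A map over `X` seen over `Y`. -/
abbrev upMap {U V : Over X} (φ : U ⟶ V) : up g U ⟶ up g V := Over.homMk φ.left (Over.w_assoc φ g)

theorem theta_up (F : EtCoh.Ab Y) {U V : Over X} (φ : U ⟶ V) :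
    (EtCoh.pull φ.left).map (etSys.θ F (upTo g V)) ≫ etSys.θ F (upMap g φ) =
      etSys.θ (etSys.M F (gOv g)) φ ≫ etSys.θ F (upTo g U) := by
  have key : ∀ (χ : up g U ⟶ gOv g) (w : upMap g φ ≫ upTo g V = χ),
      (EtCoh.pull φ.left).map (etSys.θ F (upTo g V)) ≫ etSys.θ F (upMap g φ) =
        (etSys.c φ.left V.hom χ.left (congrArg (fun t => t.left) w)).app (etSys.M F (gOv g)) ≫ etSys.θ F χ := by
    intro χ w
    subst w
    exact etSys.θ_comp F (upMap g φ) (upTo g V)
  rw [key (upTo g U) (Over.OverMorphism.ext (Over.w φ)), theta_eq (etSys.M F (gOv g)) φ]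
  rfl

theorem Hmap_up (F : EtCoh.Ab Y) {U V : Over X} (φ : U ⟶ V) (n : ℕ)
    (x : Ext.{u + 1} (EtCoh.const V.left ℤ) (etSys.M (etSys.M F (gOv g)) V) n) :
    etSys.Hmap F n (upMap g φ) (x.comp (Ext.mk₀ (etSys.θ F (upTo g V))) (add_zero n)) =
      Ext.comp (etSys.Hmap (etSys.M F (gOv g)) n φ x) (Ext.mk₀ (etSys.θ F (upTo g U))) (add_zero n) := by
  rw [PullSys.Hmap_apply, PullSys.Hmap_apply, Ext.mapExactFunctor_comp, Ext.mapExactFunctor_mk₀,
    ← Ext.comp_assoc_of_third_deg_zero, Ext.comp_assoc_of_third_deg_zero, Ext.comp_assoc_of_third_deg_zero,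
    Ext.mk₀_comp_mk₀, Ext.comp_assoc_of_third_deg_zero, Ext.comp_assoc_of_third_deg_zero, Ext.mk₀_comp_mk₀]
  exact congrArg (fun t => Ext.comp _ (Ext.comp _ (Ext.mk₀ t) _) _) (theta_up g F φ)

/-- The part of `W` over `X`. -/
abbrev bX (W : Y.Etale) : X.Etale := (EtCoh.bc g).obj W

/-- The projection to `W`, over `Y`. -/
abbrev prOv (W : Y.Etale) : up g (ov (bX g W)) ⟶ ov W :=
  Over.homMk (pullback.fst W.hom g) pullback.condition

theorem prOv_comm {W' W : Y.Etale} (φ : W' ⟶ W) :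
    upMap g (ovMap ((EtCoh.bc g).map φ)) ≫ prOv g W = prOv g W' ≫ ovMap φ :=
  Over.OverMorphism.ext (EtCoh.isPullback_bc_map g φ).w

theorem chase2 {𝒞 : Type*} [Category 𝒞] {a₀ a₁ a₂ a₃ a₄ a₅ : 𝒞} {i : a₀ ⟶ a₁} {b : a₁ ⟶ a₂} {c : a₂ ⟶ a₃}
    {r : a₃ ⟶ a₄} {p : a₁ ⟶ a₄} {q : a₄ ⟶ a₃} {π : a₀ ⟶ a₄} {δ : a₀ ⟶ a₅} {t : a₅ ⟶ a₀}
    (h1 : b ≫ c = p ≫ q) (h3 : i ≫ p = π) (h4 : q ≫ r = 𝟙 a₄) (h5 : δ ≫ t = 𝟙 a₀) :
    i ≫ b ≫ c ≫ r = δ ≫ t ≫ π := by
  rw [reassoc_of% h1, reassoc_of% h3, h4, Category.comp_id, reassoc_of% h5]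

set_option maxHeartbeats 4000000 in
theorem z_desc (F : EtCoh.Ab Y) (W : Y.Etale) (a : free W ⟶ F) :
    etSys.z (pullback.fst W.hom g) ≫ (EtCoh.pull (pullback.fst W.hom g)).map (eta W ≫ (EtCoh.pull W.hom).map a) ≫
        etSys.θ F (prOv g W) =
      (eta (bX g W) ≫ (EtCoh.pull (bX g W).hom).map (desc (bX g W)
        (((EtCoh.pullPushAdj g).unit.app F).hom.app (op W) (a.hom.app (op W) (gen W))))) ≫
        etSys.θ F (upTo g (ov (bX g W))) := by
  have hw : pullback.fst W.hom g ≫ W.hom = (bX g W).hom ≫ g := pullback.condition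
  refine DescSecLib.et_ext_Z _ _ ?_
  refine (DescSecLib.etSys.gs_map_z (pullback.fst W.hom g) _).trans ?_
  let t := ((EtCoh.pullPushAdj g).unit.app F).hom.app (op W) (a.hom.app (op W) (gen W))
  have h1 := (eta_map (bX g W) (desc (bX g W) t)).trans (congrArg (sa (bX g W) ((EtCoh.pull g).obj F)) (desc_gen (bX g W) t))
  refine Eq.trans ?_ ((congrArg (fun m => m (DescSecLib.etOneSec (bX g W).left ⟨1⟩))
    ((EtCore.gsec (bX g W).left).map_comp (eta (bX g W) ≫ (EtCoh.pull (bX g W).hom).map (desc (bX g W) t))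
      (etSys.θ F (upTo g (ov (bX g W)))))).trans
    (congrArg (fun z => (EtCore.gsec (bX g W).left).map (etSys.θ F (upTo g (ov (bX g W)))) z) h1)).symm
  show (DescSecLib.etσ (pullback.fst W.hom g)).app _ ((EtCore.gsec W.left).map
    ((EtCoh.pullPushAdj (pullback.fst W.hom g)).homEquiv _ _
      ((EtCoh.pull (pullback.fst W.hom g)).map (eta W ≫ (EtCoh.pull W.hom).map a) ≫ _))
      (DescSecLib.etOneSec W.left ⟨1⟩)) = _
  rw [(EtCoh.pullPushAdj (pullback.fst W.hom g)).homEquiv_naturality_left (eta W ≫ (EtCoh.pull W.hom).map a)]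
  rw [(EtCore.gsec W.left).map_comp, ConcreteCategory.comp_apply]
  refine (congrArg _ (congrArg _ (eta_map W a))).trans ?_
  set s := a.hom.app (op W) (gen W)
  have hc := congrArg (fun t : F ⟶ _ => t.hom.app (op W) s)
    (DescSecLib.etSys.homEquiv_c (pullback.fst W.hom g) W.hom ((bX g W).hom ≫ g) hw F)
  simp only [Adjunction.homEquiv_unit] at hc
  have hd := congrArg (fun t : F ⟶ _ => t.hom.app (op W) s)
    (DescSecLib.etSys.homEquiv_c (bX g W).hom g ((bX g W).hom ≫ g) rfl F)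
  simp only [Adjunction.homEquiv_unit] at hd
  rw [theta_eq, theta_eq]
  set k := (EtCoh.pullPushAdj (pullback.fst W.hom g)).homEquiv _ _
    ((DescSecLib.etSys.c (pullback.fst W.hom g) W.hom ((bX g W).hom ≫ g) hw).app F) with hk
  set k' := (EtCoh.pullPushAdj (bX g W).hom).homEquiv _ _
    ((DescSecLib.etSys.c (bX g W).hom g ((bX g W).hom ≫ g) rfl).app F) with hk'
  have hc' : k.hom.app (op ((EtCoh.bc W.hom).obj W))
      (((EtCoh.pullPushAdj W.hom).unit.app F).hom.app (op W) s) =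
      ((EtCoh.pull ((bX g W).hom ≫ g)).obj F).obj.map (DescSecLib.bcCompHom (pullback.fst W.hom g) W.hom ((bX g W).hom ≫ g) hw W).op
        (((EtCoh.pullPushAdj ((bX g W).hom ≫ g)).unit.app F).hom.app (op W) s) := by
    rw [hk, Adjunction.homEquiv_unit]
    exact hc
  have hd' : k'.hom.app (op ((EtCoh.bc g).obj W))
      (((EtCoh.pullPushAdj g).unit.app F).hom.app (op W) s) =
      ((EtCoh.pull ((bX g W).hom ≫ g)).obj F).obj.map (DescSecLib.bcCompHom (bX g W).hom g ((bX g W).hom ≫ g) rfl W).op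
        (((EtCoh.pullPushAdj ((bX g W).hom ≫ g)).unit.app F).hom.app (op W) s) := by
    rw [hk', Adjunction.homEquiv_unit]
    exact hd
  show ((EtCoh.pull ((bX g W).hom ≫ g)).obj F).obj.map (EtCore.bcTopIso (pullback.fst W.hom g)).inv.op
    (k.hom.app (op (EtCoh.top W.left)) (((EtCoh.pull W.hom).obj F).obj.map (EtSliceLib.diag W).op
      (((EtCoh.pullPushAdj W.hom).unit.app F).hom.app (op W) s))) = _
  erw [NatTrans.naturality_apply k.hom (EtSliceLib.diag W).op, hc']
  show _ = ((DescSecLib.etSys.c (bX g W).hom g ((bX g W).hom ≫ g) rfl).app F).hom.app (op (EtCoh.top (bX g W).left))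
    (((EtCoh.pull (bX g W).hom).obj ((EtCoh.pull g).obj F)).obj.map (EtSliceLib.diag (bX g W)).op
      (((EtCoh.pullPushAdj (bX g W).hom).unit.app ((EtCoh.pull g).obj F)).hom.app (op (bX g W))
        (((EtCoh.pullPushAdj g).unit.app F).hom.app (op W) s)))
  erw [NatTrans.naturality_apply ((DescSecLib.etSys.c (bX g W).hom g ((bX g W).hom ≫ g) rfl).app F).hom
    (EtSliceLib.diag (bX g W)).op]
  have hk'' : ∀ t, k'.hom.app (op ((EtCoh.bc g).obj W)) t =
      ((DescSecLib.etSys.c (bX g W).hom g ((bX g W).hom ≫ g) rfl).app F).hom.app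
        (op ((EtCoh.bc (bX g W).hom).obj (bX g W)))
        (((EtCoh.pullPushAdj (bX g W).hom).unit.app ((EtCoh.pull g).obj F)).hom.app (op (bX g W)) t) := fun t => by
    rw [hk', Adjunction.homEquiv_unit]
    rfl
  erw [← hk'', hd']
  show ((EtCoh.pull ((bX g W).hom ≫ g)).obj F).obj.map _ (((EtCoh.pull ((bX g W).hom ≫ g)).obj F).obj.map
    ((EtCoh.bc (pullback.fst W.hom g)).map (EtSliceLib.diag W)).op (((EtCoh.pull ((bX g W).hom ≫ g)).obj F).obj.map _ _)) =
    ((EtCoh.pull ((bX g W).hom ≫ g)).obj F).obj.map _ (((EtCoh.pull ((bX g W).hom ≫ g)).obj F).obj.map _ _)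
  simp only [← ConcreteCategory.comp_apply, ← Functor.map_comp, ← op_comp]
  congr 3
  apply congrArg Quiver.Hom.op
  refine DescSecLib.bc_hom_ext ((bX g W).hom ≫ g) _ _ ?_
  let p := pullback.fst W.hom g
  have e1 : ((EtCoh.bc p).map (EtSliceLib.diag W)).left ≫ pullback.fst (pullback.snd W.hom W.hom) p =
      pullback.fst (𝟙 W.left) p ≫ (EtSliceLib.diag W).left := DescSecLib.bc_map_fst p (EtSliceLib.diag W)
  have e2 : (EtCore.bcTopIso p).inv.left ≫ pullback.snd (𝟙 W.left) p = 𝟙 (bX g W).left :=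
    MorphismProperty.Over.w (EtCore.bcTopIso p).inv
  have e3 : (EtCore.bcTopIso p).inv.left ≫ pullback.fst (𝟙 W.left) p = p := by
    rw [← Category.comp_id (pullback.fst (𝟙 W.left) p), pullback.condition, ← Category.assoc, e2]
    exact Category.id_comp _
  have e4 : (EtSliceLib.diag W).left ≫ pullback.fst W.hom W.hom = 𝟙 W.left := pullback.lift_fst _ _ _
  have e5 : (EtSliceLib.diag (bX g W)).left ≫ pullback.fst (bX g W).hom (bX g W).hom = 𝟙 (bX g W).left := pullback.lift_fst _ _ _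
  have f1 : (DescSecLib.bcCompHom p W.hom ((bX g W).hom ≫ g) hw W).left ≫ pullback.fst W.hom ((bX g W).hom ≫ g) =
      pullback.fst _ p ≫ pullback.fst W.hom W.hom := DescSecLib.bcCompHom_fst p W.hom _ hw W
  have f2 : (DescSecLib.bcCompHom (bX g W).hom g ((bX g W).hom ≫ g) rfl W).left ≫
      pullback.fst W.hom ((bX g W).hom ≫ g) = pullback.fst _ (bX g W).hom ≫ pullback.fst W.hom g :=
    DescSecLib.bcCompHom_fst (bX g W).hom g _ rfl W
  show ((EtCore.bcTopIso p).inv.left ≫ ((EtCoh.bc p).map (EtSliceLib.diag W)).left ≫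
      (DescSecLib.bcCompHom p W.hom ((bX g W).hom ≫ g) hw W).left) ≫ pullback.fst W.hom ((bX g W).hom ≫ g) =
    ((EtSliceLib.diag (bX g W)).left ≫ (DescSecLib.bcCompHom (bX g W).hom g ((bX g W).hom ≫ g) rfl W).left) ≫
      pullback.fst W.hom ((bX g W).hom ≫ g)
  rw [Category.assoc, Category.assoc, Category.assoc, f1, f2]
  exact chase2 e1 e3 e4 e5

theorem Hmap_prOv_mk₀ (F : EtCoh.Ab Y) (W : Y.Etale) (a : free W ⟶ F) :
    etSys.Hmap F 0 (prOv g W) (psi W F 0 (Ext.mk₀ a)) =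
      Ext.comp (psi (bX g W) ((EtCoh.pull g).obj F) 0 (Ext.mk₀ (desc (bX g W)
        (((EtCoh.pullPushAdj g).unit.app F).hom.app (op W) (a.hom.app (op W) (gen W))))))
        (Ext.mk₀ (etSys.θ F (upTo g (ov (bX g W))))) (add_zero 0) := by
  rw [PullSys.Hmap_apply, psi_apply, psi_apply, Ext.mapExactFunctor_mk₀, Ext.mapExactFunctor_mk₀,
    Ext.mk₀_comp_mk₀, Ext.mk₀_comp_mk₀, Ext.mk₀_comp_mk₀, Ext.mapExactFunctor_mk₀, Ext.mk₀_comp_mk₀,
    Ext.mk₀_comp_mk₀]
  rw [Category.assoc]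
  exact congrArg Ext.mk₀ (z_desc g F W a)

/-- Sections lift locally along epimorphisms. -/
theorem exists_lift {B C : EtCoh.Ab Y} (q : B ⟶ C) [Epi q] (W : Y.Etale) (s : ToType (C.obj.obj (op W)))
    (x : W.left) :
    ∃ (W' : Y.Etale) (φ : W' ⟶ W), (∃ v : W'.left, φ.left v = x) ∧ ∃ b, q.hom.app (op W') b = C.obj.map φ.op s := by
  obtain ⟨Ω, _, _, ξ, v₀, hv₀⟩ := exists_geometric (U := W) x
  obtain ⟨q₁, hq₁⟩ := (AddCommGrpCat.epi_iff_surjective _).1
    ((epi_iff_stalks (A := AddCommGrpCat.{u + 1}) q).1 inferInstance Ω ξ)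
    (germ (A := AddCommGrpCat.{u + 1}) ξ C W v₀ s)
  obtain ⟨V₁, g₁, v₁, z₁, hv₁, rfl⟩ := exists_germ_below (A := AddCommGrpCat.{u + 1}) ξ q₁ W v₀
  rw [germ_natural_apply, ← hv₁, ← germ_res_apply] at hq₁
  obtain ⟨V₂, g₂, v₂, hv₂, he⟩ := (germ_eq_iff (A := AddCommGrpCat.{u + 1}) ξ V₁ v₁ _ _).1 hq₁
  refine ⟨V₂, g₂ ≫ g₁, ⟨v₂.pt, ?_⟩, B.obj.map g₂.op z₁, ?_⟩
  · rw [← hv₀, ← hv₁, ← hv₂]
    rfl
  rw [NatTrans.naturality_apply q.hom g₂.op z₁, op_comp, Functor.map_comp, ConcreteCategory.comp_apply]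
  exact he

/-- Classes of positive degree are killed locally. -/
theorem exists_kill : ∀ (n : ℕ) (F : EtCoh.Ab Y) (W : Y.Etale) (ε : Ext.{u + 1} (free W) F (n + 1)) (x : W.left),
    ∃ (W' : Y.Etale) (φ : W' ⟶ W), (∃ v : W'.left, φ.left v = x) ∧
      (Ext.mk₀ (freeMap φ)).comp ε (zero_add (n + 1)) = 0 := by
  intro n
  induction n with
  | zero =>
    intro F W ε x
    let ip := (EnoughInjectives.presentation F).some
    let S := ShortComplex.mk ip.f (cokernel.π ip.f) (cokernel.condition _)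
    have hS : S.ShortExact := { exact := ShortComplex.exact_of_g_is_cokernel _ (cokernelIsCokernel _) }
    haveI : Injective S.X₂ := ip.injective
    obtain ⟨d, rfl⟩ := Ext.covariant_sequence_exact₁ _ hS (n₁ := 0 + 1) ε (Ext.eq_zero_of_injective _) (n₀ := 0) rfl
    obtain ⟨d, rfl⟩ := (Ext.mk₀_bijective _ _).2 d
    haveI : Epi S.g := hS.epi_g
    obtain ⟨W', φ, hx, b, hb⟩ := exists_lift S.g W (d.hom.app (op W) (gen W)) x
    refine ⟨W', φ, hx, ?_⟩
    have h : freeMap φ ≫ d = desc W' b ≫ S.g := by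
      refine free_hom_ext _ ?_
      rw [freeMap_app]
      show _ = S.g.hom.app (op W') ((desc W' b).hom.app (op W') (gen W'))
      rw [desc_gen, hb]
    rw [← Ext.comp_assoc_of_second_deg_zero, Ext.mk₀_comp_mk₀, h, ← Ext.mk₀_comp_mk₀,
      Ext.comp_assoc_of_second_deg_zero, hS.comp_extClass, Ext.comp_zero]
  | succ n ih =>
    intro F W ε x
    let ip := (EnoughInjectives.presentation F).some
    let S := ShortComplex.mk ip.f (cokernel.π ip.f) (cokernel.condition _)
    have hS : S.ShortExact := { exact := ShortComplex.exact_of_g_is_cokernel _ (cokernelIsCokernel _) }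
    haveI : Injective S.X₂ := ip.injective
    obtain ⟨d, rfl⟩ := Ext.covariant_sequence_exact₁ _ hS (n₁ := n + 1 + 1) ε (Ext.eq_zero_of_injective _) (n₀ := n + 1) rfl
    obtain ⟨W', φ, hx, hd⟩ := ih S.X₃ W d x
    refine ⟨W', φ, hx, ?_⟩
    rw [← Ext.comp_assoc _ _ _ (zero_add (n + 1)) rfl (by omega), hd, Ext.zero_comp]

/-- Local vanishing of classes on the base change. -/
def Killed (G : EtCoh.Ab X) (n : ℕ) : Prop :=
  ∀ (W : Y.Etale) (y : Ext.{u + 1} (free (bX g W)) G (n + 1)) (w : W.left),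
    ∃ (W' : Y.Etale) (φ : W' ⟶ W), (∃ v : W'.left, φ.left v = w) ∧
      (Ext.mk₀ (freeMap ((EtCoh.bc g).map φ))).comp y (zero_add (n + 1)) = 0

theorem isZero_Rpush_of_killed : ∀ (n : ℕ) (G : EtCoh.Ab X), Killed g G n →
    IsZero ((EtCoh.Rpush g (n + 1)).obj G) := by
  haveI : PreservesLimitsOfSize.{0, 0} (EtCoh.push g) := (EtCoh.pullPushAdj g).rightAdjoint_preservesLimits
  haveI : PreservesFiniteLimits (EtCoh.push g) := PreservesLimitsOfSize.preservesFiniteLimits _
  haveI : (EtCoh.push g).Additive := { }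
  intro n
  induction n with
  | zero =>
    intro G hG
    let ip := (EnoughInjectives.presentation G).some
    let S := ShortComplex.mk ip.f (cokernel.π ip.f) (cokernel.condition _)
    have hS : S.ShortExact := { exact := ShortComplex.exact_of_g_is_cokernel _ (cokernelIsCokernel _) }
    haveI : Injective S.X₂ := ip.injective
    refine RDerLib.isZero_X₁_succ hS 0 ((EtCoh.push g).isZero_rightDerived_obj_injective_succ 0 S.X₂) ?_
    rw [RDerLib.epi_map_g_iff]
    haveI : Sheaf.IsLocallySurjective ((EtCoh.push g).map S.g) := by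
      constructor
      intro W t
      let y := (Ext.mk₀ (desc (bX g W) t)).comp hS.extClass (zero_add 1)
      choose W' φ hx hy using fun w => hG W y w
      refine GrothendieckTopology.superset_covering _ (?_ : Sieve.ofArrows W' φ ≤ _) ?_
      · rw [Sieve.generate_le_iff]
        rintro _ _ ⟨w⟩
        have h0 : (Ext.mk₀ (freeMap ((EtCoh.bc g).map (φ w)) ≫ desc (bX g W) t)).comp hS.extClass (zero_add 1) = 0 := by
          rw [← Ext.mk₀_comp_mk₀, Ext.comp_assoc_of_second_deg_zero]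
          exact hy w
        obtain ⟨m, hm⟩ := Ext.covariant_sequence_exact₃ _ hS _ (n₁ := 1) (zero_add 1) h0
        obtain ⟨m, rfl⟩ := (Ext.mk₀_bijective _ _).2 m
        rw [Ext.mk₀_comp_mk₀] at hm
        refine ⟨m.hom.app (op (bX g (W' w))) (gen (bX g (W' w))), ?_⟩
        have h := congrArg (fun a : free (bX g (W' w)) ⟶ S.X₃ => a.hom.app (op (bX g (W' w))) (gen (bX g (W' w))))
          ((Ext.mk₀_bijective _ _).1 hm)
        refine h.trans ?_
        rw [freeMap_app, desc_gen]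
        rfl
      · rw [Scheme.ofArrows_mem_smallEtaleTopology_iff]
        exact Set.eq_univ_of_forall fun w => Set.mem_iUnion.2 ⟨w, hx w⟩
    exact (Sheaf.isLocallySurjective_iff_epi' (J := Y.smallEtaleTopology) (A := AddCommGrpCat.{u + 1}) _).1 inferInstance
  | succ n ih =>
    intro G hG
    let ip := (EnoughInjectives.presentation G).some
    let S := ShortComplex.mk ip.f (cokernel.π ip.f) (cokernel.condition _)
    have hS : S.ShortExact := { exact := ShortComplex.exact_of_g_is_cokernel _ (cokernelIsCokernel _) }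
    haveI : Injective S.X₂ := ip.injective
    have hQ : Killed g S.X₃ n := by
      intro W y w
      obtain ⟨W', φ, hx, hy⟩ := hG W (y.comp hS.extClass rfl) w
      refine ⟨W', φ, hx, ?_⟩
      rw [← Ext.comp_assoc _ _ _ (zero_add (n + 1)) rfl (by omega)] at hy
      obtain ⟨m, hm⟩ := Ext.covariant_sequence_exact₃ _ hS _ rfl hy
      rw [← hm, Ext.eq_zero_of_injective m, Ext.zero_comp]
    refine RDerLib.isZero_X₁_succ hS (n + 1) ((EtCoh.push g).isZero_rightDerived_obj_injective_succ (n + 1) S.X₂) ?_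
    exact ⟨fun a b _ => (ih S.X₃ hQ).eq_of_src a b⟩

variable (F : EtCoh.Ab Y) (n : ℕ)

/-- The comparison on all etale objects. -/
def Surj : Prop := ∀ W : Y.Etale, ∀ q, q ≤ n → Function.Surjective (etSys.Hmap F q (prOv g W))

set_option maxHeartbeats 4000000 in
theorem killed_of_surj {m : ℕ} (hm : m + 1 ≤ n) (H : Surj g F n) : Killed g ((EtCoh.pull g).obj F) m := by
  intro W y w
  let G := (EtCoh.pull g).obj F
  obtain ⟨e, he⟩ := H W (m + 1) hm
    (Ext.comp (psi (bX g W) G (m + 1) y) (Ext.mk₀ (etSys.θ F (upTo g (ov (bX g W))))) (add_zero (m + 1)))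
  obtain ⟨ε, rfl⟩ := (psi_bijective W (m + 1) F).2 e
  obtain ⟨W', φ, hx, hε⟩ := exists_kill m F W ε w
  refine ⟨W', φ, hx, ?_⟩
  haveI := isIso_theta F (upTo g (ov (bX g W')))
  let φ' : bX g W' ⟶ bX g W := (EtCoh.bc g).map φ
  let ι := etSys.θ F (upTo g (ov (bX g W')))
  have h1 : psi (bX g W') G (m + 1) ((Ext.mk₀ (freeMap φ')).comp y (zero_add (m + 1))) =
      etSys.Hmap G (m + 1) (ovMap φ') (psi (bX g W) G (m + 1) y) := (Hmap_psi G φ' y).symm
  have h2 : etSys.Hmap F (m + 1) (upMap g (ovMap φ')) (etSys.Hmap F (m + 1) (prOv g W) (psi W F (m + 1) ε)) =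
      Ext.comp (etSys.Hmap G (m + 1) (ovMap φ') (psi (bX g W) G (m + 1) y)) (Ext.mk₀ ι) (add_zero (m + 1)) :=
    (congrArg (etSys.Hmap F (m + 1) (upMap g (ovMap φ'))) he).trans
      (Hmap_up g F (ovMap φ') (m + 1) (psi (bX g W) G (m + 1) y))
  have h3 : etSys.Hmap F (m + 1) (ovMap φ) (psi W F (m + 1) ε) = 0 := by
    refine (Hmap_psi F φ ε).trans ?_
    rw [hε, map_zero]
  have h4 : etSys.Hmap F (m + 1) (upMap g (ovMap φ')) (etSys.Hmap F (m + 1) (prOv g W) (psi W F (m + 1) ε)) = 0 := by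
    refine (etSys.Hmap_comp F (m + 1) (upMap g (ovMap φ')) (prOv g W) (psi W F (m + 1) ε)).symm.trans ?_
    refine (congrArg (fun t => etSys.Hmap F (m + 1) t (psi W F (m + 1) ε)) (prOv_comm g φ)).trans ?_
    refine (etSys.Hmap_comp F (m + 1) (prOv g W') (ovMap φ) (psi W F (m + 1) ε)).trans ?_
    exact (congrArg (etSys.Hmap F (m + 1) (prOv g W')) h3).trans (map_zero _)
  apply (psi_bijective (bX g W') (m + 1) G).1
  refine h1.trans (Eq.trans ?_ (map_zero _).symm)
  apply (bijective_mk₀_iso_postcomp (asIso ι) (m + 1)).1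
  exact (h2.symm.trans h4).trans (Ext.zero_comp _ _ (Ext.mk₀ ι) _ (add_zero (m + 1))).symm

end

end EtAcycLib
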