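import Groth.Agent.EtAcycLib.Local

/-!
# The two forms of acyclicity
-/

set_option autoImplicit false
set_option linter.unusedSectionVars false
set_option linter.style.haveILetI false
set_option backward.isDefEq.respectTransparency false
set_option backward.isDefEq.respectTransparency.types false
set_option synthInstance.maxHeartbeats 400000
set_option maxHeartbeats 2000000

universe u

open CategoryTheory CategoryTheory.Limits CategoryTheory.Abelian AlgebraicGeometry Opposite
open Groth.Agent Groth.Agent.EtShLib EtSliceLib DescSecLib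

namespace EtAcycLib

noncomputable section

theorem bijective_Hmap_of_iso {Y : Scheme.{u}} (F : EtCoh.Ab Y) (q : ℕ) {A B : Over Y} (e : A ≅ B) :
    Function.Bijective (etSys.Hmap F q e.hom) := by
  refine Function.bijective_iff_has_inverse.2 ⟨etSys.Hmap F q e.inv, fun x => ?_, fun x => ?_⟩
  · rw [← PullSys.Hmap_comp, e.inv_hom_id, PullSys.Hmap_id]
  · rw [← PullSys.Hmap_comp, e.hom_inv_id, PullSys.Hmap_id]

theorem hmap_eq_Hpull {Y : Scheme.{u}} (F : EtCoh.Ab Y) (q : ℕ) {A B : Over Y} (φ : A ⟶ B)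
    [PreservesFiniteLimits (EtCoh.pull φ.left)] (x : EtCoh.H B.left (etSys.M F B) q) :
    etSys.Hmap F q φ x = Ext.comp (EtCore.Hpull φ.left (etSys.M F B) q x) (Ext.mk₀ (etSys.θ F φ)) (add_zero q) := by
  rw [PullSys.Hmap_apply]
  show _ = Ext.comp ((Ext.mk₀ (EtCore.pullConst φ.left ℤ).inv).comp
    (Ext.mapExactFunctor (EtCoh.pull φ.left) x) (zero_add q)) _ _
  rw [pullConst_inv_eq_etZ]
  rfl

variable {X Y : Scheme.{u}} (g : X ⟶ Y)

/-- The comparison map on an etale object of an etale object. -/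
theorem bijective_prOv {L : Set ℕ} {n : ℕ} (hg : EtAcyc.IsAcyclicN g L n) (V : Y.Etale) {F : EtCoh.Ab V.left}
    (hF : EtAcyc.IsLTorsion L F) (W : V.left.Etale) (q : ℕ) (hq : q ≤ n) :
    Function.Bijective (etSys.Hmap F q (prOv (EtAcyc.prj g V) W)) := by
  haveI : AlgebraicGeometry.Etale V.hom := V.prop
  haveI : AlgebraicGeometry.Etale W.hom := W.prop
  let W2 : Y.Etale := Scheme.Etale.mk (W.hom ≫ V.hom)
  let p := pullback.fst (W.hom ≫ V.hom) g
  haveI : PreservesFiniteLimits (EtCoh.pull p) := EtSliceLib.pullExact p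
  let B : Over V.left := Over.mk (p ≫ W.hom)
  let p' : B ⟶ ov W := Over.homMk p
  have hp : Function.Bijective (etSys.Hmap F q p') := by
    have hb : Function.Bijective (EtCore.Hpull p ((EtCoh.pull W.hom).obj F) q) :=
      (hg W2 ((EtCoh.pull W.hom).obj F) (isLTorsion_pull W hF)).1 q hq
    haveI : PreservesFiniteLimits (EtCoh.pull p'.left) := EtSliceLib.pullExact p
    haveI := isIso_theta F p'
    have e : (etSys.Hmap F q p' : _ → _) = (fun y => Ext.comp y (Ext.mk₀ (asIso (etSys.θ F p')).hom) (add_zero q)) ∘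
        EtCore.Hpull p ((EtCoh.pull W.hom).obj F) q := funext fun x => hmap_eq_Hpull F q p' x
    rw [e]
    exact (bijective_mk₀_iso_postcomp _ q).comp hb
  let e : up (EtAcyc.prj g V) (ov (bX (EtAcyc.prj g V) W)) ≅ B :=
    Over.isoMk (pullbackRightPullbackFstIso V.hom g W.hom) (by
      show (pullbackRightPullbackFstIso V.hom g W.hom).hom ≫ pullback.fst (W.hom ≫ V.hom) g ≫ W.hom = _
      rw [pullbackRightPullbackFstIso_hom_fst_assoc]
      exact pullback.condition)
  have he : prOv (EtAcyc.prj g V) W = e.hom ≫ p' :=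
    Over.OverMorphism.ext (pullbackRightPullbackFstIso_hom_fst V.hom g W.hom).symm
  have hc : (etSys.Hmap F q (e.hom ≫ p') : _ → _) = etSys.Hmap F q e.hom ∘ etSys.Hmap F q p' :=
    funext fun x => etSys.Hmap_comp F q e.hom p' x
  rw [he, hc]
  exact (bijective_Hmap_of_iso F q e).comp hp

theorem bijective_unit_app {F : EtCoh.Ab Y} (H : ∀ W, Function.Bijective (etSys.Hmap F 0 (prOv g W))) (W : Y.Etale) :
    Function.Bijective (((EtCoh.pullPushAdj g).unit.app F).hom.app (op W)) := by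
  haveI := isIso_theta F (upTo g (ov (bX g W)))
  let G := (EtCoh.pull g).obj F
  let u := ((EtCoh.pullPushAdj g).unit.app F).hom.app (op W)
  let Ψ : ToType (G.obj.obj (op (bX g W))) → _ := fun t =>
    Ext.comp (psi (bX g W) G 0 (Ext.mk₀ (desc (bX g W) t))) (Ext.mk₀ (etSys.θ F (upTo g (ov (bX g W))))) (add_zero 0)
  have hΨ : Function.Injective Ψ := by
    intro t t' h
    have h1 := (Ext.mk₀_bijective _ _).1 ((psi_bijective (bX g W) 0 G).1
      ((bijective_mk₀_iso_postcomp (asIso (etSys.θ F (upTo g (ov (bX g W))))) 0).1 h))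
    have h2 := congrArg (fun d : free (bX g W) ⟶ G => d.hom.app (op (bX g W)) (gen (bX g W))) h1
    simpa [desc_gen] using h2
  have hΦ : ∀ a : free W ⟶ F,
      etSys.Hmap F 0 (prOv g W) (psi W F 0 (Ext.mk₀ a)) = Ψ (u (a.hom.app (op W) (gen W))) := fun a =>
    Hmap_prOv_mk₀ g F W a
  refine ⟨fun s s' h => ?_, fun t => ?_⟩
  · have h1 := hΦ (desc W s)
    have h2 := hΦ (desc W s')
    rw [desc_gen] at h1 h2
    have h3 := (Ext.mk₀_bijective _ _).1 ((psi_bijective W 0 F).1
      ((H W).1 (h1.trans ((congrArg Ψ h).trans h2.symm))))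
    have h4 := congrArg (fun d : free W ⟶ F => d.hom.app (op W) (gen W)) h3
    simpa [desc_gen] using h4
  · obtain ⟨e, he⟩ := (H W).2 (Ψ t)
    obtain ⟨y, rfl⟩ := (psi_bijective W 0 F).2 e
    obtain ⟨a, rfl⟩ := (Ext.mk₀_bijective _ _).2 y
    exact ⟨a.hom.app (op W) (gen W), hΨ ((hΦ a).symm.trans he)⟩

theorem isAcyclicN_iff (L : Set ℕ) (n : ℕ) :
    EtAcyc.IsAcyclicN g L n ↔
      ∀ (V : Y.Etale) (F : EtCoh.Ab V.left), EtAcyc.IsLTorsion L F →
        IsIso ((EtCoh.pullPushAdj (EtAcyc.prj g V)).unit.app F) ∧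
          ∀ q : ℕ, 1 ≤ q → q ≤ n →
            IsZero ((EtCoh.Rpush (EtAcyc.prj g V) q).obj ((EtCoh.pull (EtAcyc.prj g V)).obj F)) := by
  refine ⟨fun hg V F hF => ⟨?_, fun q h1 hq => ?_⟩, fun H V => compN_of_unit_iso (EtAcyc.prj g V) L n (H V)⟩
  · haveI : IsIso ((sheafToPresheaf V.left.smallEtaleTopology AddCommGrpCat.{u + 1}).map
        ((EtCoh.pullPushAdj (EtAcyc.prj g V)).unit.app F)) := by
      rw [NatTrans.isIso_iff_isIso_app]
      intro W
      exact (ConcreteCategory.isIso_iff_bijective _).2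
        (bijective_unit_app (EtAcyc.prj g V) (fun W => bijective_prOv g hg V hF W 0 (Nat.zero_le n)) W.unop)
    exact isIso_of_reflects_iso _ (sheafToPresheaf V.left.smallEtaleTopology AddCommGrpCat.{u + 1})
  · obtain ⟨m, rfl⟩ : ∃ m, q = m + 1 := ⟨q - 1, by omega⟩
    exact isZero_Rpush_of_killed _ m _
      (killed_of_surj (EtAcyc.prj g V) F n hq fun W q hq => (bijective_prOv g hg V hF W q hq).2)

end

end EtAcycLib
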