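import Groth.Agent.EtSliceLib.Basic
import Groth.Agent.EtShLib.TorsionCoh
import Groth.Prelude.Def_EtAcyc

/-!
# Naturality of pullback on cohomology and torsion of quotients
-/

set_option autoImplicit false
set_option linter.unusedSectionVars false
set_option linter.style.haveILetI false
set_option backward.isDefEq.respectTransparency false
set_option backward.isDefEq.respectTransparency.types false
set_option synthInstance.maxHeartbeats 400000
set_option maxHeartbeats 1000000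

universe u

open CategoryTheory CategoryTheory.Limits CategoryTheory.Abelian AlgebraicGeometry Opposite
open Groth.Agent.EtShLib

namespace EtAcycLib

noncomputable section

variable {X Y : Scheme.{u}} (h : Y ⟶ X)

theorem isLTorsion_of_epi {L : Set ℕ} {G C : EtCoh.Ab X} (hG : EtAcyc.IsLTorsion L G) (q : G ⟶ C) [Epi q] :
    EtAcyc.IsLTorsion L C := by
  intro U s x
  obtain ⟨Ω, _, _, ξ, v₀, hv₀⟩ := exists_geometric (U := U) x
  obtain ⟨q₁, hq₁⟩ := (AddCommGrpCat.epi_iff_surjective _).1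
    ((epi_iff_stalks (A := AddCommGrpCat.{u + 1}) q).1 inferInstance Ω ξ)
    (germ (A := AddCommGrpCat.{u + 1}) ξ C U v₀ s)
  obtain ⟨V₁, g₁, v₁, z₁, hv₁, rfl⟩ := exists_germ_below (A := AddCommGrpCat.{u + 1}) ξ q₁ U v₀
  rw [germ_natural_apply, ← hv₁, ← germ_res_apply] at hq₁
  obtain ⟨V₂, g₂, v₂, hv₂, he⟩ := (germ_eq_iff (A := AddCommGrpCat.{u + 1}) ξ V₁ v₁ _ _).1 hq₁
  obtain ⟨V, g₃, m, ⟨v, hv⟩, hm, hk⟩ := hG V₂ (G.obj.map g₂.op z₁) v₂.pt
  refine ⟨V, g₃ ≫ g₂ ≫ g₁, m, ⟨v, ?_⟩, hm, ?_⟩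
  · rw [← hv₀, ← hv₁, ← hv₂]
    exact congrArg (fun z => g₁.left.base (g₂.left.base z)) hv
  have hz : q.hom.app (op V) (G.obj.map g₃.op (G.obj.map g₂.op z₁)) = C.obj.map (g₃ ≫ g₂ ≫ g₁).op s := by
    refine (NatTrans.naturality_apply q.hom g₃.op _).trans ?_
    rw [NatTrans.naturality_apply q.hom g₂.op z₁]
    simp only [op_comp, Functor.map_comp, ConcreteCategory.comp_apply]
    exact congrArg (C.obj.map g₃.op) he
  rw [← hz, ← map_nsmul, hk, map_zero]

variable [PreservesFiniteLimits (EtCoh.pull h)]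

theorem Hpull_postcomp {A B : EtCoh.Ab X} (f : A ⟶ B) (n : ℕ) (x : EtCoh.H X A n) :
    EtCore.Hpull h B n (x.comp (Ext.mk₀ f) (add_zero n)) =
      (EtCore.Hpull h A n x).comp (Ext.mk₀ ((EtCoh.pull h).map f)) (add_zero n) := by
  show (Ext.mk₀ _).comp (Ext.mapExactFunctor (EtCoh.pull h) (x.comp (Ext.mk₀ f) (add_zero n))) (zero_add n) =
    ((Ext.mk₀ _).comp (Ext.mapExactFunctor (EtCoh.pull h) x) (zero_add n)).comp _ (add_zero n)
  rw [Ext.mapExactFunctor_comp, Ext.mapExactFunctor_mk₀, Ext.comp_assoc_of_third_deg_zero]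

theorem Hpull_delta [PreservesFiniteColimits (EtCoh.pull h)] {S : ShortComplex (EtCoh.Ab X)} (hS : S.ShortExact)
    {n : ℕ} (x : EtCoh.H X S.X₃ n) :
    EtCore.Hpull h S.X₁ (n + 1) (x.comp hS.extClass rfl) =
      Ext.comp (EtCore.Hpull h S.X₃ n x) (hS.map_of_exact (EtCoh.pull h)).extClass rfl := by
  show (Ext.mk₀ _).comp (Ext.mapExactFunctor (EtCoh.pull h) (x.comp hS.extClass rfl)) (zero_add (n + 1)) =
    ((Ext.mk₀ _).comp (Ext.mapExactFunctor (EtCoh.pull h) x) (zero_add n)).comp _ rfl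
  rw [Ext.mapExactFunctor_comp, Ext.comp_assoc _ _ _ (zero_add n) rfl (by omega)]
  erw [Ext.mapExactFunctor_extClass]

end

end EtAcycLib
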