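import Groth.Agent.EtAcycLib.Crit
import Groth.Agent.EtShLib.TorsionOk

/-!
# Acyclic morphisms and composition
-/

set_option autoImplicit false
set_option linter.unusedSectionVars false
set_option linter.style.haveILetI false
set_option backward.isDefEq.respectTransparency false
set_option backward.isDefEq.respectTransparency.types false
set_option synthInstance.maxHeartbeats 400000
set_option maxHeartbeats 1000000

universe u

open CategoryTheory CategoryTheory.Limits CategoryTheory.Abelian AlgebraicGeometry Opposite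
open Groth.Agent Groth.Agent.EtShLib EtSliceLib DescSecLib

namespace EtAcycLib

noncomputable section

theorem isLTorsion_pull_any {X S : Scheme.{u}} (p : X ⟶ S) {L : Set ℕ} {F : EtCoh.Ab S}
    (hF : EtAcyc.IsLTorsion L F) : EtAcyc.IsLTorsion L ((EtCoh.pull p).obj F) := by
  rw [isLTorsion_iff_torsionBy] at hF ⊢
  intro Ω _ _ ξ x
  obtain ⟨m, hm, h⟩ := hF Ω (ξ ≫ p) ((stalkPull p ξ AddCommGrpCat.{u + 1}).inv.app F x)
  refine ⟨m, hm, ?_⟩
  apply (ConcreteCategory.bijective_of_isIso ((stalkPull p ξ AddCommGrpCat.{u + 1}).inv.app F)).1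
  exact ((map_nsmul ((stalkPull p ξ AddCommGrpCat.{u + 1}).inv.app F).hom m x).trans h).trans
    (map_zero ((stalkPull p ξ AddCommGrpCat.{u + 1}).inv.app F).hom).symm

section Range

variable {α β γ : ℕ → Type*}

/-- Bijective up to `n`, injective at `n + 1`. -/
def Rng (n : ℕ) (f : ∀ q, α q → β q) : Prop :=
  (∀ q, q ≤ n → Function.Bijective (f q)) ∧ Function.Injective (f (n + 1))

theorem rng_comp_iff {n : ℕ} (g : ∀ q, β q → γ q) (f : ∀ q, α q → β q) (hg : Rng n g) :
    Rng n (fun q => g q ∘ f q) ↔ Rng n f :=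
  ⟨fun h => ⟨fun q hq => (Function.Bijective.of_comp_iff' (hg.1 q hq) (f q)).1 (h.1 q hq), h.2.of_comp⟩,
    fun h => ⟨fun q hq => (hg.1 q hq).comp (h.1 q hq), hg.2.comp h.2⟩⟩

theorem rng_comp_iff_of_bijective {n : ℕ} (g : ∀ q, β q → γ q) (f : ∀ q, α q → β q)
    (hg : ∀ q, Function.Bijective (g q)) : Rng n (fun q => g q ∘ f q) ↔ Rng n f :=
  rng_comp_iff g f ⟨fun q _ => hg q, (hg _).1⟩

theorem rng_comp_bijective_iff {n : ℕ} (g : ∀ q, β q → γ q) (f : ∀ q, α q → β q)
    (hf : ∀ q, Function.Bijective (f q)) : Rng n (fun q => g q ∘ f q) ↔ Rng n g :=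
  ⟨fun h => ⟨fun q hq => (Function.Bijective.of_comp_iff (g q) (hf q)).1 (h.1 q hq),
      (Function.Injective.of_comp_iff' (g _) (hf _)).1 h.2⟩,
    fun h => ⟨fun q hq => (h.1 q hq).comp (hf q), h.2.comp (hf _).1⟩⟩

end Range

variable {S : Scheme.{u}}

theorem rng_Hmap_iff (F : EtCoh.Ab S) (n : ℕ) {A B : Over S} (φ : A ⟶ B)
    [PreservesFiniteLimits (EtCoh.pull φ.left)] :
    Rng n (fun q => (etSys.Hmap F q φ : _ → _)) ↔
      Rng n (fun q => (EtCore.Hpull φ.left (etSys.M F B) q : _ → _)) := by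
  haveI := isIso_theta F φ
  have e : (fun q => (etSys.Hmap F q φ : _ → _)) = fun q =>
      (fun y => Ext.comp y (Ext.mk₀ (asIso (etSys.θ F φ)).hom) (add_zero q)) ∘
        (EtCore.Hpull φ.left (etSys.M F B) q : _ → _) :=
    funext fun q => funext fun x => hmap_eq_Hpull F q φ x
  rw [e]
  exact rng_comp_iff_of_bijective (fun q y => Ext.comp y (Ext.mk₀ (asIso (etSys.θ F φ)).hom) (add_zero q))
    _ fun q => bijective_mk₀_iso_postcomp _ q

theorem rng_Hpull_of_iso {X : Scheme.{u}} (p : X ⟶ S) [PreservesFiniteLimits (EtCoh.pull p)] (n : ℕ)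
    {F F' : EtCoh.Ab S} (e : F ≅ F') (h : Rng n (fun q => (EtCore.Hpull p F q : _ → _))) :
    Rng n (fun q => (EtCore.Hpull p F' q : _ → _)) := by
  have h1 : (fun q => (EtCore.Hpull p F' q : _ → _) ∘ fun x : EtCoh.H S F q => Ext.comp x (Ext.mk₀ e.hom) (add_zero q)) =
      fun q => (fun y => Ext.comp y (Ext.mk₀ ((EtCoh.pull p).mapIso e).hom) (add_zero q)) ∘
        (EtCore.Hpull p F q : _ → _) :=
    funext fun q => funext fun x => Hpull_postcomp p e.hom q x
  refine (rng_comp_bijective_iff (fun q => (EtCore.Hpull p F' q : _ → _))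
    (fun q (x : EtCoh.H S F q) => Ext.comp x (Ext.mk₀ e.hom) (add_zero q)) fun q => bijective_mk₀_iso_postcomp e q).1 ?_
  rw [h1]
  exact (rng_comp_iff_of_bijective (fun q y => Ext.comp y (Ext.mk₀ ((EtCoh.pull p).mapIso e).hom) (add_zero q))
    _ fun q => bijective_mk₀_iso_postcomp _ q).2 h

/-- The base, over itself. -/
abbrev baseOv (S : Scheme.{u}) : Over S := Over.mk (𝟙 S)

/-- The map to the base. -/
abbrev toBase {X : Scheme.{u}} (p : X ⟶ S) : Over.mk p ⟶ baseOv S := Over.homMk p (Category.comp_id p)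

theorem compN_iff {X : Scheme.{u}} (p : X ⟶ S) (L : Set ℕ) (n : ℕ) :
    EtAcyc.CompN p L n ↔
      ∀ F : EtCoh.Ab S, EtAcyc.IsLTorsion L F → Rng n (fun q => (etSys.Hmap F q (toBase p) : _ → _)) := by
  haveI : PreservesFiniteLimits (EtCoh.pull p) := EtSliceLib.pullExact p
  haveI : PreservesFiniteLimits (EtCoh.pull (toBase p).left) := EtSliceLib.pullExact p
  refine ⟨fun h F hF => (rng_Hmap_iff F n (toBase p)).2 (h _ (isLTorsion_pull_any (𝟙 S) hF)), fun h F hF _ => ?_⟩
  let e : EtCoh.pull (𝟙 S) ≅ 𝟭 (EtCoh.Ab S) :=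
    Adjunction.leftAdjointUniq (EtCoh.pullPushAdj (𝟙 S)) ((Adjunction.id (C := EtCoh.Ab S)).ofNatIsoRight (etPid S))
  exact rng_Hpull_of_iso p n (e.app F) ((rng_Hmap_iff F n (toBase p)).1 (h F hF))

section Comp

variable {X Y Z : Scheme.{u}} (g : X ⟶ Y) (h : Y ⟶ Z)

/-- The base change of an etale object. -/
abbrev midObj (V : Z.Etale) : Y.Etale := (EtCoh.bc h).obj V

theorem compN_prj_iff {L : Set ℕ} {n : ℕ} (hg : EtAcyc.IsAcyclicN g L n) (V : Z.Etale) :
    EtAcyc.CompN (EtAcyc.prj h V) L n ↔ EtAcyc.CompN (EtAcyc.prj (g ≫ h) V) L n := by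
  let p := EtAcyc.prj h V
  let p'' := EtAcyc.prj (g ≫ h) V
  let q := EtAcyc.prj g (midObj h V)
  let φA : Over.mk (q ≫ p) ⟶ Over.mk p := Over.homMk q
  let e : Over.mk (q ≫ p) ≅ Over.mk p'' :=
    Over.isoMk (pullbackLeftPullbackSndIso V.hom h g) (pullbackLeftPullbackSndIso_hom_fst V.hom h g)
  have he : φA ≫ toBase p = e.hom ≫ toBase p'' :=
    Over.OverMorphism.ext (pullbackLeftPullbackSndIso_hom_fst V.hom h g).symm
  haveI : PreservesFiniteLimits (EtCoh.pull φA.left) := EtSliceLib.pullExact q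
  have hA : ∀ F : EtCoh.Ab V.left, EtAcyc.IsLTorsion L F → Rng n (fun k => (etSys.Hmap F k φA : _ → _)) :=
    fun F hF => (rng_Hmap_iff F n φA).2
      (@hg (midObj h V) _ (isLTorsion_pull_any p hF) (EtSliceLib.pullExact q))
  have key : ∀ F : EtCoh.Ab V.left, EtAcyc.IsLTorsion L F →
      (Rng n (fun k => (etSys.Hmap F k (toBase p) : _ → _)) ↔ Rng n (fun k => (etSys.Hmap F k (toBase p'') : _ → _))) := by
    intro F hF
    refine (rng_comp_iff _ _ (hA F hF)).symm.trans (Iff.trans (Eq.to_iff (congrArg (Rng n) ?_))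
      (rng_comp_iff_of_bijective (fun k => (etSys.Hmap F k e.hom : _ → _)) _ fun k => bijective_Hmap_of_iso F k e))
    refine funext fun k => funext fun x => ?_
    show etSys.Hmap F k φA (etSys.Hmap F k (toBase p) x) = etSys.Hmap F k e.hom (etSys.Hmap F k (toBase p'') x)
    rw [← PullSys.Hmap_comp, ← PullSys.Hmap_comp, he]
  rw [compN_iff, compN_iff]
  exact forall_congr' fun F => forall_congr' fun hF => key F hF

theorem isAcyclicN_comp_iff {L : Set ℕ} {n : ℕ} (hg : EtAcyc.IsAcyclicN g L n) :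
    EtAcyc.IsAcyclicN h L n ↔ EtAcyc.IsAcyclicN (g ≫ h) L n :=
  forall_congr' fun V => compN_prj_iff g h hg V

/-- Direct image of sets along the identity. -/
def shPid (X : Scheme.{u}) : 𝟭 (EtDesc.Sh X) ≅ EtDesc.pushSh (𝟙 X) :=
  NatIso.ofComponents
    (fun G =>
      { hom := ⟨{ app := fun U => G.obj.map (bcIdIso X U.unop).hom.op
                  naturality := fun U V i => by
                    change G.obj.map _ ≫ G.obj.map _ = G.obj.map _ ≫ G.obj.map _
                    rw [← G.obj.map_comp, ← G.obj.map_comp]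
                    exact congrArg (fun t => G.obj.map (Quiver.Hom.op t))
                      (bcIdIso_naturality X i.unop).symm }⟩
        inv := ⟨{ app := fun U => G.obj.map (bcIdIso X U.unop).inv.op
                  naturality := fun U V i => by
                    change G.obj.map _ ≫ G.obj.map _ = G.obj.map _ ≫ G.obj.map _
                    rw [← G.obj.map_comp, ← G.obj.map_comp]
                    refine congrArg (fun t => G.obj.map (Quiver.Hom.op t)) ?_
                    refine (Iso.inv_comp_eq (bcIdIso X V.unop)).2 ?_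
                    exact ((Category.assoc _ _ _).symm.trans ((Iso.comp_inv_eq (bcIdIso X U.unop)).2
                      (bcIdIso_naturality X i.unop).symm)).symm }⟩
        hom_inv_id := by
          refine Sheaf.hom_ext (NatTrans.ext ?_)
          funext U
          change G.obj.map _ ≫ G.obj.map _ = 𝟙 (G.obj.obj _)
          rw [← G.obj.map_comp, ← G.obj.map_id, ← op_comp, Iso.inv_hom_id]
          rfl
        inv_hom_id := by
          refine Sheaf.hom_ext (NatTrans.ext ?_)
          funext U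
          change G.obj.map _ ≫ G.obj.map _ = 𝟙 (G.obj.obj _)
          rw [← G.obj.map_comp, ← G.obj.map_id, ← op_comp, Iso.hom_inv_id]
          rfl })
    (fun {G G'} φ => by
      refine Sheaf.hom_ext (NatTrans.ext ?_)
      funext U
      exact (φ.hom.naturality _).symm)

theorem pushSh_id_comp {A B : Scheme.{u}} (a : A ⟶ B) (b : B ⟶ A) (w : a ≫ b = 𝟙 A) :
    Nonempty (EtDesc.pushSh a ⋙ EtDesc.pushSh b ≅ 𝟭 (EtDesc.Sh A)) := by
  have e := EtDesc.pushCompSh b a
  rw [w] at e
  exact ⟨e ≪≫ (shPid A).symm⟩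

theorem isIso_unit_of_iso {A B : Scheme.{u}} (e : A ≅ B) (G : EtDesc.Sh B) :
    IsIso ((EtDesc.adjSh e.hom).unit.app G) := by
  haveI : (EtDesc.pushSh e.hom).IsEquivalence :=
    (CategoryTheory.Equivalence.mk (EtDesc.pushSh e.hom) (EtDesc.pushSh e.inv)
      (pushSh_id_comp e.hom e.inv e.hom_inv_id).some.symm
      (pushSh_id_comp e.inv e.hom e.inv_hom_id).some).isEquivalence_functor
  haveI := (EtDesc.adjSh e.hom).isEquivalence_left_of_isEquivalence_right
  infer_instance

theorem isIso_unit_comp_iff {A B C : Scheme.{u}} (a : A ⟶ B) (b : B ⟶ C) (G : EtDesc.Sh C)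
    (ha : IsIso ((EtDesc.adjSh a).unit.app ((EtDesc.pullSh b).obj G))) :
    IsIso ((EtDesc.adjSh (a ≫ b)).unit.app G) ↔ IsIso ((EtDesc.adjSh b).unit.app G) := by
  have h1 := Adjunction.unit_leftAdjointUniq_hom_app (EtDesc.adjSh (a ≫ b))
    (((EtDesc.adjSh b).comp (EtDesc.adjSh a)).ofNatIsoRight (EtDesc.pushCompSh b a)) G
  have h2 : (((EtDesc.adjSh b).comp (EtDesc.adjSh a)).ofNatIsoRight (EtDesc.pushCompSh b a)).unit.app G =
      ((EtDesc.adjSh b).unit.app G ≫ (EtDesc.pushSh b).map ((EtDesc.adjSh a).unit.app ((EtDesc.pullSh b).obj G))) ≫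
        (EtDesc.pushCompSh b a).hom.app _ := by
    simp [Adjunction.ofNatIsoRight, Adjunction.comp_unit_app]
  rw [h2] at h1
  rw [← isIso_comp_right_iff ((EtDesc.adjSh (a ≫ b)).unit.app G)
    ((EtDesc.pushSh (a ≫ b)).map ((EtDesc.pullCompSh a b).hom.app G))]
  erw [h1]
  rw [isIso_comp_right_iff, isIso_comp_right_iff]

theorem isZeroAcyclic_comp_iff (hg : EtAcyc.IsZeroAcyclic g) :
    EtAcyc.IsZeroAcyclic h ↔ EtAcyc.IsZeroAcyclic (g ≫ h) := by
  refine forall_congr' fun V => forall_congr' fun G => ?_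
  let e := pullbackLeftPullbackSndIso V.hom h g
  have he : e.hom ≫ EtAcyc.prj (g ≫ h) V = EtAcyc.prj g (midObj h V) ≫ EtAcyc.prj h V :=
    pullbackLeftPullbackSndIso_hom_fst V.hom h g
  refine (isIso_unit_comp_iff (EtAcyc.prj g (midObj h V)) (EtAcyc.prj h V) G (hg _ _)).symm.trans ?_
  have key : ∀ (m : pullback (midObj h V).hom g ⟶ V.left), e.hom ≫ EtAcyc.prj (g ≫ h) V = m →
      (IsIso ((EtDesc.adjSh m).unit.app G) ↔ IsIso ((EtDesc.adjSh (EtAcyc.prj (g ≫ h) V)).unit.app G)) := by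
    intro m hm
    subst hm
    exact isIso_unit_comp_iff e.hom (EtAcyc.prj (g ≫ h) V) G (isIso_unit_of_iso e _)
  exact key _ he

end Comp

end

end EtAcycLib
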