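import Groth.Agent.S14451
import Groth.Agent.EtAcycLib.Chase
import Groth.Agent.EtSliceLib.Hpull
import Groth.Agent.EtTransferLib.Torsion

/-!
# Comparison in a range of degrees
-/

set_option autoImplicit false
set_option linter.unusedSectionVars false
set_option linter.style.haveILetI false
set_option backward.isDefEq.respectTransparency false
set_option backward.isDefEq.respectTransparency.types false
set_option synthInstance.maxHeartbeats 400000
set_option maxHeartbeats 1000000

universe w v v' u'' u' u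

open CategoryTheory CategoryTheory.Limits CategoryTheory.Abelian AlgebraicGeometry Opposite
open Groth.Agent Groth.Agent.S14451

namespace EtAcycLib

noncomputable section

section Generic

variable {C : Type u'} [Category.{v} C] [Abelian C] [HasExt.{w} C]
  {D : Type u''} [Category.{v'} D] [Abelian D] [HasExt.{w} D] [EnoughInjectives D]
  {F : C ⥤ D} {G : D ⥤ C} (adj : F ⊣ G) [F.Additive] [G.Additive]
  [PreservesFiniteLimits F] [PreservesFiniteColimits F] [PreservesFiniteLimits G]

theorem extAdj'_injective_one_gen (X : C) (Y : D) : Function.Injective (extAdj'.{w} adj X Y 1) := by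
  haveI : F.PreservesMonomorphisms := inferInstance
  refine (injective_iff_map_eq_zero _).2 fun x hx => ?_
  let ip := (EnoughInjectives.presentation Y).some
  let S := ShortComplex.mk ip.f (cokernel.π ip.f) (cokernel.condition _)
  have hS : S.ShortExact := { exact := ShortComplex.exact_of_g_is_cokernel _ (cokernelIsCokernel _) }
  haveI : Injective S.X₂ := ip.injective
  let S₁ := ShortComplex.mk (G.map S.f) (cokernel.π (G.map S.f)) (cokernel.condition _)
  haveI : Mono (G.map S.f) := G.map_mono _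
  have h₁ : S₁.ShortExact := { exact := ShortComplex.exact_of_g_is_cokernel _ (cokernelIsCokernel _) }
  haveI : Injective S₁.X₂ := Injective.injective_of_adjoint adj S.X₂
  let j : S₁.X₃ ⟶ G.obj S.X₃ := cokernel.desc (G.map S.f) (G.map S.g) (by rw [← G.map_comp, S.zero, G.map_zero])
  haveI : Mono j := (S.map G).exact_iff_mono_cokernel_desc.1 (hS.exact.map_of_mono_of_preservesKernel G inferInstance inferInstance)
  obtain ⟨d, rfl⟩ := Ext.covariant_sequence_exact₁ _ h₁ (n₁ := 0 + 1) x (Ext.eq_zero_of_injective _) (n₀ := 0) rfl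
  obtain ⟨d, rfl⟩ := (Ext.mk₀_bijective _ _).2 d
  let ψ : S₁.map F ⟶ S :=
    ⟨adj.counit.app S.X₁, adj.counit.app S.X₂, (adj.homEquiv _ _).symm j,
      (adj.counit.naturality S.f).symm, (by
        show adj.counit.app S.X₂ ≫ S.g = F.map (cokernel.π (G.map S.f)) ≫ (adj.homEquiv _ _).symm j
        rw [← Adjunction.homEquiv_naturality_left_symm, cokernel.π_desc, Adjunction.homEquiv_counit]
        exact (adj.counit.naturality S.g).symm)⟩
  have hnat := (h₁.map_of_exact F).extClass_naturality hS ψ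
  have h0 : (Ext.mk₀ (F.map d ≫ (adj.homEquiv _ _).symm j)).comp hS.extClass (zero_add 1) = 0 := by
    refine Eq.trans ?_ hx
    show _ = (((Ext.mk₀ d).comp h₁.extClass _).mapExactFunctor F).comp (Ext.mk₀ (adj.counit.app S.X₁)) (add_zero 1)
    rw [Ext.mapExactFunctor_comp, Ext.mapExactFunctor_mk₀, Ext.comp_assoc_of_third_deg_zero, ← Ext.mk₀_comp_mk₀,
      Ext.comp_assoc_of_second_deg_zero]
    erw [Ext.mapExactFunctor_extClass]
    exact congrArg (fun z => (Ext.mk₀ (F.map d)).comp z (zero_add 1)) hnat.symm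
  obtain ⟨w, hw⟩ := Ext.covariant_sequence_exact₃ _ hS _ (n₁ := 1) (zero_add 1) h0
  obtain ⟨e, rfl⟩ := (Ext.mk₀_bijective _ S.X₂).2 w
  rw [Ext.mk₀_comp_mk₀] at hw
  have he : e ≫ S.g = F.map d ≫ (adj.homEquiv _ _).symm j := (Ext.mk₀_bijective _ _).1 hw
  rw [← Adjunction.homEquiv_naturality_left_symm] at he
  have hd : d = adj.homEquiv _ _ e ≫ S₁.g := by
    rw [← cancel_mono j, Category.assoc]
    show d ≫ j = adj.homEquiv _ _ e ≫ cokernel.π (G.map S.f) ≫ cokernel.desc _ _ _
    rw [cokernel.π_desc, ← Adjunction.homEquiv_naturality_right, he, Equiv.apply_symm_apply]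
  rw [hd, ← Ext.mk₀_comp_mk₀, Ext.comp_assoc_of_second_deg_zero, h₁.comp_extClass, Ext.comp_zero]

theorem extAdj'_range [HasInjectiveResolutions D] (X : C) : ∀ (n : ℕ) (Y : D),
    (∀ q, q + 1 ≤ n → IsZero ((G.rightDerived (q + 1)).obj Y)) →
      (∀ m, m ≤ n → Function.Bijective (extAdj'.{w} adj X Y m)) ∧
        Function.Injective (extAdj'.{w} adj X Y (n + 1)) := by
  intro n
  induction n with
  | zero =>
    intro Y _
    refine ⟨fun m hm => ?_, extAdj'_injective_one_gen adj X Y⟩
    obtain rfl : m = 0 := by omega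
    have : (extAdj'.{w} adj X Y 0 : _ → _) =
        Ext.mk₀ ∘ (adj.homEquiv X Y).symm ∘ Ext.addEquiv₀ := by
      funext x
      obtain ⟨f, rfl⟩ := Ext.addEquiv₀.symm.surjective x
      show ((Ext.mk₀ f).mapExactFunctor F).comp (Ext.mk₀ (adj.counit.app Y)) (add_zero 0) =
        Ext.mk₀ ((adj.homEquiv X Y).symm (Ext.addEquiv₀ (Ext.addEquiv₀.symm f)))
      rw [AddEquiv.apply_symm_apply, Ext.mapExactFunctor_mk₀, Ext.mk₀_comp_mk₀, Adjunction.homEquiv_counit]
    rw [this]
    exact (Ext.mk₀_bijective _ _).comp ((adj.homEquiv X Y).symm.bijective.comp Ext.addEquiv₀.bijective)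
  | succ n ih =>
    intro Y hY
    let ip := (EnoughInjectives.presentation Y).some
    let S := ShortComplex.mk ip.f (cokernel.π ip.f) (cokernel.condition _)
    have hS : S.ShortExact := { exact := ShortComplex.exact_of_g_is_cokernel _ (cokernelIsCokernel _) }
    have hG : (S.map G).ShortExact := RDerLib.map_shortExact hS
      ((RDerLib.epi_map_g_iff _).1 (RDerLib.epi_map_g hS 0 (hY 0 (by omega))))
    haveI : Injective S.X₂ := ip.injective
    haveI : F.PreservesMonomorphisms := inferInstance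
    haveI : Injective (G.obj S.X₂) := Injective.injective_of_adjoint adj S.X₂
    have h₂ : ∀ q, IsZero ((G.rightDerived (q + 1)).obj S.X₂) := fun q =>
      G.isZero_rightDerived_obj_injective_succ q S.X₂
    have h₃ : ∀ q, q + 1 ≤ n → IsZero ((G.rightDerived (q + 1)).obj S.X₃) := fun q hq =>
      RDerLib.isZero_X₃ hS (q + 1) (hY (q + 1) (by omega)) (h₂ q)
    haveI : Injective (S.map G).X₂ := ‹Injective (G.obj S.X₂)›
    have hmid : ∀ m, Function.Bijective (extAdj'.{w} adj X S.X₂ m) := fun m =>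
      extAdj'_bijective adj X m S.X₂ h₂
    have hinj : ∀ m, m ≤ n + 1 → Function.Injective (extAdj'.{w} adj X S.X₁ (m + 1)) := by
      intro m hm
      refine (injective_iff_map_eq_zero _).2 fun x hx => ?_
      obtain ⟨z, rfl⟩ := Ext.covariant_sequence_exact₁ X hG x (Ext.eq_zero_of_injective _) (n₀ := m) rfl
      change Ext.{w} X (G.obj S.X₃) m at z
      change extAdj' adj X S.X₁ (m + 1) (z.comp hG.extClass rfl) = 0 at hx
      rw [← extAdj'_delta adj X hS hG z] at hx
      obtain ⟨y, hy⟩ := Ext.covariant_sequence_exact₃ (F.obj X) hS _ rfl hx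
      obtain ⟨e, rfl⟩ := (hmid m).2 y
      change TorsBCLib.em (F.obj X) S.g m _ = _ at hy
      rw [extAdj'_em] at hy
      have hinj' : Function.Injective (extAdj'.{w} adj X S.X₃ m) := by
        rcases Nat.lt_or_ge m (n + 1) with hm' | hm'
        · exact ((ih S.X₃ h₃).1 m (by omega)).1
        · obtain rfl : m = n + 1 := by omega
          exact (ih S.X₃ h₃).2
      rw [← hinj' hy]
      exact TorsBCLib.g_delta hG rfl e
    refine ⟨fun m hm => ?_, hinj (n + 1) le_rfl⟩
    rcases m with _ | m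
    · exact (ih Y (fun q hq => hY q (by omega))).1 0 (by omega)
    refine ⟨hinj m (by omega), fun y => ?_⟩
    obtain ⟨z, rfl⟩ := Ext.covariant_sequence_exact₁ (F.obj X) hS (n₁ := m + 1) y (Ext.eq_zero_of_injective _) (n₀ := m) rfl
    obtain ⟨e, rfl⟩ := ((ih S.X₃ h₃).1 m (by omega)).2 z
    exact ⟨e.comp hG.extClass rfl, (extAdj'_delta adj X hS hG e).symm⟩

omit [EnoughInjectives D] [PreservesFiniteLimits G] in
theorem mapExact_eq_extAdj' {X Y : C} {n : ℕ} (x : Ext.{w} X Y n) :
    Ext.mapExactFunctor F x = extAdj' adj X (F.obj Y) n (x.comp (Ext.mk₀ (adj.unit.app Y)) (add_zero n)) := by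
  show _ = ((x.comp _ _).mapExactFunctor F).comp (Ext.mk₀ (adj.counit.app (F.obj Y))) (add_zero n)
  rw [Ext.mapExactFunctor_comp, Ext.mapExactFunctor_mk₀, Ext.comp_assoc_of_second_deg_zero, Ext.mk₀_comp_mk₀,
    adj.left_triangle_components, Ext.comp_mk₀_id]

end Generic

theorem bijective_mk₀_iso_precomp {C : Type u'} [Category.{v} C] [Abelian C] [HasExt.{w} C] {A B Z : C} (e : A ≅ B)
    (n : ℕ) : Function.Bijective fun x : Ext.{w} B Z n => (Ext.mk₀ e.hom).comp x (zero_add n) := by
  refine Function.bijective_iff_has_inverse.2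
    ⟨fun x => (Ext.mk₀ e.inv).comp x (zero_add n), fun x => ?_, fun x => ?_⟩
  · show (Ext.mk₀ _).comp ((Ext.mk₀ _).comp x _) _ = x
    rw [Ext.mk₀_comp_mk₀_assoc, Iso.inv_hom_id, Ext.mk₀_id_comp]
  · show (Ext.mk₀ _).comp ((Ext.mk₀ _).comp x _) _ = x
    rw [Ext.mk₀_comp_mk₀_assoc, Iso.hom_inv_id, Ext.mk₀_id_comp]

theorem bijective_mk₀_iso_postcomp {C : Type u'} [Category.{v} C] [Abelian C] [HasExt.{w} C] {A B Z : C} (e : A ≅ B)
    (n : ℕ) : Function.Bijective fun x : Ext.{w} Z A n => x.comp (Ext.mk₀ e.hom) (add_zero n) := by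
  refine Function.bijective_iff_has_inverse.2
    ⟨fun x => x.comp (Ext.mk₀ e.inv) (add_zero n), fun x => ?_, fun x => ?_⟩
  · show (x.comp (Ext.mk₀ _) _).comp (Ext.mk₀ _) _ = x
    rw [Ext.comp_assoc_of_second_deg_zero, Ext.mk₀_comp_mk₀, Iso.hom_inv_id, Ext.comp_mk₀_id]
  · show (x.comp (Ext.mk₀ _) _).comp (Ext.mk₀ _) _ = x
    rw [Ext.comp_assoc_of_second_deg_zero, Ext.mk₀_comp_mk₀, Iso.inv_hom_id, Ext.comp_mk₀_id]

/-- (i) implies the comparison for one morphism. -/
theorem compN_of_unit_iso {X Y : Scheme.{u}} (h : X ⟶ Y) (L : Set ℕ) (n : ℕ)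
    (H : ∀ F : EtCoh.Ab Y, EtAcyc.IsLTorsion L F → IsIso ((EtCoh.pullPushAdj h).unit.app F) ∧
      ∀ q : ℕ, 1 ≤ q → q ≤ n → IsZero ((EtCoh.Rpush h q).obj ((EtCoh.pull h).obj F))) :
    EtAcyc.CompN h L n := by
  intro F hF _
  haveI : PreservesLimitsOfSize.{0, 0} (EtCoh.push h) := (EtCoh.pullPushAdj h).rightAdjoint_preservesLimits
  haveI : PreservesFiniteLimits (EtCoh.push h) := PreservesLimitsOfSize.preservesFiniteLimits _
  haveI : PreservesFiniteColimits (EtCoh.pull h) :=
    haveI : PreservesColimitsOfSize.{0, 0} (EtCoh.pull h) := (EtCoh.pullPushAdj h).leftAdjoint_preservesColimits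
    PreservesColimitsOfSize.preservesFiniteColimits _
  haveI : (EtCoh.push h).Additive := { }
  obtain ⟨hu, hR⟩ := H F hF
  haveI := hu
  obtain ⟨hb, hi⟩ := extAdj'_range (EtCoh.pullPushAdj h) (EtCoh.const Y ℤ) n ((EtCoh.pull h).obj F)
    fun q hq => hR (q + 1) (by omega) hq
  have e : ∀ q, (EtCore.Hpull h F q : _ → _) =
      (fun x => (Ext.mk₀ (EtCore.pullConst h ℤ).symm.hom).comp x (zero_add q)) ∘
        extAdj' (EtCoh.pullPushAdj h) (EtCoh.const Y ℤ) ((EtCoh.pull h).obj F) q ∘
          fun x : EtCoh.H Y F q => Ext.comp x (Ext.mk₀ (asIso ((EtCoh.pullPushAdj h).unit.app F)).hom) (add_zero q) := by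
    intro q
    funext x
    exact congrArg (fun t => (Ext.mk₀ (EtCore.pullConst h ℤ).symm.hom).comp t (zero_add q))
      (mapExact_eq_extAdj' (EtCoh.pullPushAdj h) x)
  refine ⟨fun q hq => ?_, ?_⟩
  · rw [e q]
    exact (bijective_mk₀_iso_precomp _ q).comp ((hb q hq).comp (bijective_mk₀_iso_postcomp _ q))
  · rw [e (n + 1)]
    exact (bijective_mk₀_iso_precomp _ _).1.comp (hi.comp (bijective_mk₀_iso_postcomp _ _).1)

theorem isLTorsion_pull {X : Scheme.{u}} (W : X.Etale) {L : Set ℕ} {F : EtCoh.Ab X} (hF : EtAcyc.IsLTorsion L F) :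
    EtAcyc.IsLTorsion L ((EtCoh.pull W.hom).obj F) := by
  haveI : AlgebraicGeometry.Etale W.hom := W.prop
  haveI := EtShLib.jCont W.hom
  haveI : IsIso ((EtShLib.restrTheta W.hom).app F) := NatIso.isIso_app_of_isIso (EtShLib.restrTheta W.hom) F
  refine isLTorsion_of_epi (G := (EtShriek.restrAlong W.hom).obj F) ?_
    (asIso ((EtShLib.restrTheta W.hom).app F)).inv
  intro V s x
  obtain ⟨V', g, m, ⟨v, hv⟩, hm, ho⟩ := hF ((EtShriek.compEtale W.hom).obj V) s x
  have w : g.left ≫ V.hom ≫ W.hom = V'.hom := MorphismProperty.Over.w g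
  haveI : AlgebraicGeometry.Etale ((g.left ≫ V.hom) ≫ W.hom) := by
    rw [Category.assoc, w]
    exact V'.prop
  haveI : AlgebraicGeometry.Etale (g.left ≫ V.hom) := AlgebraicGeometry.Etale.of_comp _ W.hom
  let V₂ : W.left.Etale := Scheme.Etale.mk (g.left ≫ V.hom)
  let g₂ : V₂ ⟶ V := MorphismProperty.Over.homMk g.left rfl
  let e : (EtShriek.compEtale W.hom).obj V₂ ⟶ V' :=
    MorphismProperty.Over.homMk (𝟙 _) (by
      show 𝟙 _ ≫ V'.hom = (g.left ≫ V.hom) ≫ W.hom
      rw [Category.id_comp, Category.assoc]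
      exact w.symm)
  refine ⟨V₂, g₂, m, ⟨v, hv⟩, hm, ?_⟩
  have h : ((EtShriek.restrAlong W.hom).obj F).obj.map g₂.op s = F.obj.map e.op (F.obj.map g.op s) := by
    rw [← ConcreteCategory.comp_apply, ← Functor.map_comp, ← op_comp]
    have he : (EtShriek.compEtale W.hom).map g₂ = e ≫ g := MorphismProperty.Over.Hom.ext (Category.id_comp _).symm
    exact congrArg (fun t => F.obj.map t.op s) he
  rw [h]
  exact ((map_nsmul (F.obj.map e.op).hom m (F.obj.map g.op s)).symm.trans ((congrArg (F.obj.map e.op) ho).trans (map_zero (F.obj.map e.op).hom)))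

end

end EtAcycLib
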